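import Mathlib.LinearAlgebra.Matrix.GeneralLinearGroup.Card
import Cfsg.Prelude.Def_LinearParabolics

/-!
# Counting invertible block triangular matrices

* `card_blockTriangular` : the number of invertible block upper triangular matrices for a labelling
  `b : ι → Fin m` is `(∏ k, |GL_{m_k}(F)|) * |F| ^ #{(i, j) : b i < b j}`.
* `card_label_lt`, `card_label_eq` : the labelling `compLabel μ` of a composition `μ` of `n` takes the value
  `k` exactly `μ k` times.
* `index_parabolicGL` : the index of the parabolic subgroup as a `q`-multinomial coefficient.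
-/

set_option autoImplicit false

namespace Cfsg.Agent.H139.BlockCount

open scoped MatrixGroups
open Finset Matrix

section assemble

variable {ι : Type*} {F : Type*} [Field F]

/-- Assemble a block triangular matrix from its diagonal blocks and the entries above. -/
def assemble {m : ℕ} (b : ι → Fin m) (D : ∀ k : Fin m, Matrix {i // b i = k} {i // b i = k} F)
    (u : {p : ι × ι // b p.1 < b p.2} → F) : Matrix ι ι F :=
  Matrix.of fun i j => if h : b i = b j then D (b j) ⟨i, h⟩ ⟨j, rfl⟩
    else if h' : b i < b j then u ⟨(i, j), h'⟩ else 0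

theorem assemble_blockTriangular {m : ℕ} (b : ι → Fin m)
    (D : ∀ k : Fin m, Matrix {i // b i = k} {i // b i = k} F)
    (u : {p : ι × ι // b p.1 < b p.2} → F) : (assemble b D u).BlockTriangular b := by
  intro i j hij
  simp only [assemble, Matrix.of_apply]
  rw [dif_neg (ne_of_gt hij), dif_neg (not_lt_of_gt hij)]

theorem assemble_block {m : ℕ} (b : ι → Fin m)
    (D : ∀ k : Fin m, Matrix {i // b i = k} {i // b i = k} F)
    (u : {p : ι × ι // b p.1 < b p.2} → F) (k : Fin m) : (assemble b D u).toSquareBlock b k = D k := by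
  ext ⟨i, hi⟩ ⟨j, hj⟩
  subst hj
  simp only [assemble, Matrix.toSquareBlock_def, Matrix.of_apply]
  rw [dif_pos hi]

end assemble

section count

variable {ι : Type*} [Fintype ι] [DecidableEq ι] {F : Type*} [Field F]

/-- Invertible block triangular matrices are given by invertible diagonal blocks and entries above. -/
noncomputable def equivBlocks {m : ℕ} (b : ι → Fin m) :
    {g : GL ι F // (g : Matrix ι ι F).BlockTriangular b} ≃
      (∀ k : Fin m, GL {i // b i = k} F) × ({p : ι × ι // b p.1 < b p.2} → F) where
  toFun g := (fun k => GeneralLinearGroup.mk'' ((g.1 : Matrix ι ι F).toSquareBlock b k) (by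
      have h1 : IsUnit ((g.1 : Matrix ι ι F)).det := by
        have := (Matrix.isUnit_iff_isUnit_det (g.1 : Matrix ι ι F)).1 g.1.isUnit
        exact this
      rw [g.2.det_fintype, isUnit_iff_ne_zero, Finset.prod_ne_zero_iff] at h1
      exact isUnit_iff_ne_zero.2 (h1 k (Finset.mem_univ k))),
    fun p => (g.1 : Matrix ι ι F) p.1.1 p.1.2)
  invFun x := ⟨GeneralLinearGroup.mk'' (assemble b (fun k => ((x.1 k : GL {i // b i = k} F) : Matrix {i // b i = k} {i // b i = k} F)) x.2) (by
      rw [(assemble_blockTriangular b (fun k => ((x.1 k : GL {i // b i = k} F) : Matrix {i // b i = k} {i // b i = k} F)) x.2).det_fintype, isUnit_iff_ne_zero, Finset.prod_ne_zero_iff]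
      intro k _
      rw [assemble_block]
      exact isUnit_iff_ne_zero.1 ((Matrix.isUnit_iff_isUnit_det _).1 (x.1 k).isUnit)),
    assemble_blockTriangular b (fun k => ((x.1 k : GL {i // b i = k} F) : Matrix {i // b i = k} {i // b i = k} F)) x.2⟩
  left_inv g := by
    apply Subtype.ext
    apply Units.ext
    ext i j
    change assemble b (fun k => (g.1 : Matrix ι ι F).toSquareBlock b k)
      (fun p => (g.1 : Matrix ι ι F) p.1.1 p.1.2) i j = (g.1 : Matrix ι ι F) i j
    simp only [assemble, Matrix.of_apply, Matrix.toSquareBlock_def]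
    split_ifs with h h'
    · rfl
    · rfl
    · exact (g.2 (lt_of_le_of_ne (not_lt.1 h') (Ne.symm h))).symm
  right_inv x := by
    refine Prod.ext ?_ ?_
    · funext k
      apply Units.ext
      change (assemble b (fun k => (x.1 k : Matrix _ _ F)) x.2).toSquareBlock b k = _
      rw [assemble_block]
    · funext p
      change assemble b (fun k => (x.1 k : Matrix _ _ F)) x.2 p.1.1 p.1.2 = _
      simp only [assemble, Matrix.of_apply]
      rw [dif_neg (ne_of_lt p.2), dif_pos p.2]

theorem card_blockTriangular [Fintype F] {m : ℕ} (b : ι → Fin m) :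
    Nat.card {g : GL ι F // (g : Matrix ι ι F).BlockTriangular b} =
      (∏ k : Fin m, Nat.card (GL {i // b i = k} F)) *
        Fintype.card F ^ (Finset.univ.filter fun p : ι × ι => b p.1 < b p.2).card := by
  classical
  rw [Nat.card_congr (equivBlocks b), Nat.card_prod, Nat.card_pi, Nat.card_eq_fintype_card,
    Fintype.card_fun, Fintype.card_subtype]

end count

section labels

variable {n : ℕ}

/-- Partial sums of a composition. -/
def psum (μ : Fin n → ℕ) (k : ℕ) : ℕ := ∑ j ∈ Finset.univ.filter (fun j : Fin n => j.val < k), μ j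

theorem psum_zero (μ : Fin n → ℕ) : psum μ 0 = 0 := by
  simp [psum]

theorem psum_last (μ : Fin n → ℕ) : psum μ n = ∑ i, μ i := by
  simp [psum]

theorem psum_mono (μ : Fin n → ℕ) : Monotone (psum μ) := by
  intro a b hab
  apply Finset.sum_le_sum_of_subset
  intro j hj
  simp only [Finset.mem_filter, Finset.mem_univ, true_and] at hj ⊢
  omega

theorem psum_succ (μ : Fin n → ℕ) (k : Fin n) : psum μ (k.val + 1) = psum μ k.val + μ k := by
  have : (Finset.univ.filter fun j : Fin n => j.val < k.val + 1) =
      insert k (Finset.univ.filter fun j : Fin n => j.val < k.val) := by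
    ext j
    simp only [Finset.mem_filter, Finset.mem_univ, true_and, Finset.mem_insert]
    constructor
    · intro h
      rcases Nat.lt_succ_iff_lt_or_eq.1 h with h | h
      · exact Or.inr h
      · exact Or.inl (Fin.ext h)
    · rintro (h | h)
      · subst h; exact Nat.lt_succ_self _
      · exact Nat.lt_succ_of_lt h
  rw [psum, this, Finset.sum_insert (by simp), add_comm]
  rfl

theorem sum_le_eq_psum (μ : Fin n → ℕ) (j : Fin n) :
    (∑ k ∈ Finset.univ.filter (fun k : Fin n => k ≤ j), μ k) = psum μ (j.val + 1) := by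
  apply Finset.sum_congr _ (fun _ _ => rfl)
  ext k
  simp only [Finset.mem_filter, Finset.mem_univ, true_and, Fin.le_def, Nat.lt_succ_iff]

theorem compLabel_lt_iff (μ : Fin n → ℕ) (i : Fin n) {k : ℕ} (hk : k ≤ n) (h0 : psum μ n = n) :
    compLabel μ i < k ↔ i.val < psum μ k := by
  have hset : (Finset.univ.filter fun j : Fin n =>
      (∑ k ∈ Finset.univ.filter (fun k : Fin n => k ≤ j), μ k) ≤ i.val) =
      (Finset.univ.filter fun j : Fin n => psum μ (j.val + 1) ≤ i.val) := by
    ext j
    simp only [Finset.mem_filter, Finset.mem_univ, true_and, sum_le_eq_psum]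
  rw [compLabel, hset]
  constructor
  · intro h
    by_contra hcon
    push Not at hcon
    have hsub : (Finset.univ.filter fun j : Fin n => j.val < k) ⊆
        (Finset.univ.filter fun j : Fin n => psum μ (j.val + 1) ≤ i.val) := by
      intro j hj
      simp only [Finset.mem_filter, Finset.mem_univ, true_and] at hj ⊢
      exact (psum_mono μ hj).trans hcon
    have h2 := Finset.card_le_card hsub
    rw [Fin.card_filter_val_lt, min_eq_right hk] at h2
    omega
  · intro h
    have hk0 : 0 < k := by
      rcases Nat.eq_zero_or_pos k with h0 | h0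
      · subst h0
        rw [psum_zero] at h
        omega
      · exact h0
    have hsub : (Finset.univ.filter fun j : Fin n => psum μ (j.val + 1) ≤ i.val) ⊆
        (Finset.univ.filter fun j : Fin n => j.val < k - 1) := by
      intro j hj
      simp only [Finset.mem_filter, Finset.mem_univ, true_and] at hj ⊢
      by_contra hcon
      have h3 := psum_mono μ (show k ≤ j.val + 1 by omega)
      omega
    have h2 := Finset.card_le_card hsub
    rw [Fin.card_filter_val_lt, min_eq_right (by omega)] at h2
    omega

theorem compLabel_lt (μ : Fin n → ℕ) (h0 : ∑ i, μ i = n) (i : Fin n) : compLabel μ i < n := by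
  rw [← psum_last] at h0
  rw [compLabel_lt_iff μ i le_rfl h0, h0]
  exact i.2

theorem card_label_lt (μ : Fin n → ℕ) (h0 : ∑ i, μ i = n) {k : ℕ} (hk : k ≤ n) :
    (Finset.univ.filter fun i : Fin n => compLabel μ i < k).card = psum μ k := by
  rw [← psum_last] at h0
  have h1 : psum μ k ≤ n := by
    have := psum_mono μ hk
    omega
  have : (Finset.univ.filter fun i : Fin n => compLabel μ i < k) =
      (Finset.univ.filter fun i : Fin n => i.val < psum μ k) := by
    ext i
    simp only [Finset.mem_filter, Finset.mem_univ, true_and]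
    exact compLabel_lt_iff μ i hk h0
  rw [this, Fin.card_filter_val_lt, min_eq_right h1]

theorem card_label_eq (μ : Fin n → ℕ) (h0 : ∑ i, μ i = n) (k : Fin n) :
    (Finset.univ.filter fun i : Fin n => compLabel μ i = k.val).card = μ k := by
  have h1 := card_label_lt μ h0 (show k.val + 1 ≤ n from k.2)
  have h2 := card_label_lt μ h0 (show k.val ≤ n from k.2.le)
  rw [psum_succ] at h1
  have h3 : (Finset.univ.filter fun i : Fin n => compLabel μ i < k.val + 1) =
      (Finset.univ.filter fun i : Fin n => compLabel μ i < k.val) ∪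
      (Finset.univ.filter fun i : Fin n => compLabel μ i = k.val) := by
    ext i
    simp only [Finset.mem_filter, Finset.mem_univ, true_and, Finset.mem_union]
    omega
  rw [h3, Finset.card_union_of_disjoint, h2] at h1
  · omega
  · rw [Finset.disjoint_filter]
    intro i _ h h'
    omega

/-- The label as an element of `Fin n`. -/
def lab (μ : Fin n → ℕ) (h0 : ∑ i, μ i = n) (i : Fin n) : Fin n := ⟨compLabel μ i, compLabel_lt μ h0 i⟩

theorem card_lab_eq (μ : Fin n → ℕ) (h0 : ∑ i, μ i = n) (k : Fin n) :
    Fintype.card {i : Fin n // lab μ h0 i = k} = μ k := by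
  rw [Fintype.card_subtype, ← card_label_eq μ h0 k]
  congr 1
  ext i
  simp only [Finset.mem_filter, Finset.mem_univ, true_and, lab, Fin.ext_iff]

theorem card_GL_congr {ι : Type*} [Fintype ι] [DecidableEq ι] (F : Type*) [Field F] [Fintype F] {m : ℕ}
    (h : Fintype.card ι = m) : Nat.card (GL ι F) = ∏ i ∈ Finset.range m, (Fintype.card F ^ m - Fintype.card F ^ i) := by
  rw [← Fin.prod_univ_eq_prod_range (fun i => Fintype.card F ^ m - Fintype.card F ^ i) m, ← Matrix.card_GL_field]
  have e : ι ≃ Fin m := Fintype.equivFinOfCardEq h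
  exact Nat.card_congr (Units.mapEquiv (Matrix.reindexAlgEquiv F F e).toMulEquiv).toEquiv

/-- The product `∏_{i<m} (q^m - q^i)` in terms of `q`-integers. -/
theorem prod_sub_eq (q m : ℕ) (hq : 1 ≤ q) :
    ∏ i ∈ Finset.range m, (q ^ m - q ^ i) =
      (q ^ (∑ i ∈ Finset.range m, i) * (q - 1) ^ m) * ∏ j ∈ Finset.range m, ∑ l ∈ Finset.range (j + 1), q ^ l := by
  have h1 : ∀ i ∈ Finset.range m, q ^ m - q ^ i = q ^ i * ((q - 1) * ∑ l ∈ Finset.range (m - 1 - i + 1), q ^ l) := by
    intro i hi
    have hi' := Finset.mem_range.1 hi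
    rw [mul_comm (q - 1), geom_sum_mul_of_one_le hq, Nat.mul_sub, mul_one, ← pow_add]
    congr 2
    omega
  rw [Finset.prod_congr rfl h1, Finset.prod_mul_distrib, Finset.prod_mul_distrib, Finset.prod_pow_eq_pow_sum,
    Finset.prod_const, Finset.card_range, mul_assoc]
  congr 2
  exact Finset.prod_range_reflect (fun j => ∑ l ∈ Finset.range (j + 1), q ^ l) m

/-- Twice the number of pairs with increasing labels, plus the sum of the squares of the fibres, is `n²`. -/
theorem card_pairs {ι : Type*} [Fintype ι] [DecidableEq ι] {m : ℕ} (b : ι → Fin m) :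
    2 * (Finset.univ.filter fun p : ι × ι => b p.1 < b p.2).card +
      ∑ k : Fin m, Fintype.card {i // b i = k} ^ 2 = Fintype.card ι ^ 2 := by
  have h1 : (Finset.univ.filter fun p : ι × ι => b p.2 < b p.1).card =
      (Finset.univ.filter fun p : ι × ι => b p.1 < b p.2).card := by
    apply Finset.card_bij (fun p _ => (p.2, p.1))
    · intro p hp
      simpa using hp
    · intro p _ p' _ h
      simp only [Prod.mk.injEq] at h
      exact Prod.ext h.2 h.1
    · intro p hp
      exact ⟨(p.2, p.1), by simpa using hp, rfl⟩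
  have h2 : (Finset.univ.filter fun p : ι × ι => b p.1 = b p.2).card =
      ∑ k : Fin m, Fintype.card {i // b i = k} ^ 2 := by
    rw [Finset.card_eq_sum_card_fiberwise (f := fun p => b p.2) (t := Finset.univ) (by simp)]
    apply Finset.sum_congr rfl
    intro k _
    have : (Finset.univ.filter fun p : ι × ι => b p.1 = b p.2).filter (fun p => b p.2 = k) =
        (Finset.univ.filter fun i => b i = k) ×ˢ (Finset.univ.filter fun i => b i = k) := by
      ext p
      simp only [Finset.mem_filter, Finset.mem_univ, true_and, Finset.mem_product]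
      constructor
      · rintro ⟨h, h'⟩
        exact ⟨h.trans h', h'⟩
      · rintro ⟨h, h'⟩
        exact ⟨h.trans h'.symm, h'⟩
    rw [this, Finset.card_product, Fintype.card_subtype, sq]
  have h3 : Fintype.card ι ^ 2 = (Finset.univ : Finset (ι × ι)).card := by
    rw [Finset.card_univ, Fintype.card_prod, sq]
  have h4 : (Finset.univ : Finset (ι × ι)).card =
      (Finset.univ.filter fun p : ι × ι => b p.1 < b p.2).card +
      (Finset.univ.filter fun p : ι × ι => b p.2 < b p.1).card +
      (Finset.univ.filter fun p : ι × ι => b p.1 = b p.2).card := by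
    rw [← Finset.card_union_of_disjoint, ← Finset.card_union_of_disjoint]
    · congr 1
      ext p
      simp only [Finset.mem_filter, Finset.mem_univ, true_and, Finset.mem_union, true_iff]
      rcases lt_trichotomy (b p.1) (b p.2) with h | h | h
      · exact Or.inl (Or.inl h)
      · exact Or.inr h
      · exact Or.inl (Or.inr h)
    · rw [Finset.disjoint_left]
      intro p hp hp'
      simp only [Finset.mem_filter, Finset.mem_univ, true_and, Finset.mem_union] at hp hp'
      rcases hp with hp | hp
      · exact absurd hp' (ne_of_lt hp)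
      · exact absurd hp' (ne_of_gt hp)
    · rw [Finset.disjoint_filter]
      intro p _ h h'
      exact absurd h (not_lt_of_gt h')
  rw [h3, h4, h1, h2]
  ring

theorem sum_range_id_add (m : ℕ) : 2 * (∑ i ∈ Finset.range m, i) + m = m ^ 2 := by
  have := Finset.sum_range_id_mul_two m
  rcases m with _ | m
  · simp
  · rw [mul_comm, this]
    simp only [Nat.add_sub_cancel]
    ring

/-- **The index of a parabolic subgroup of `GL_n(q)`** as a `q`-multinomial coefficient. -/
theorem index_parabolicGL {F : Type*} [Field F] [Fintype F] {q : ℕ} (hq : Fintype.card F = q) {n : ℕ}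
    (μ : Fin n → ℕ) (hμ : ∑ i, μ i = n) :
    Nat.card (GL (Fin n) F ⧸ Cfsg.parabolicGL n F μ) *
        ∏ i : Fin n, ∏ j ∈ Finset.range (μ i), ∑ l ∈ Finset.range (j + 1), q ^ l =
      ∏ j ∈ Finset.range n, ∑ l ∈ Finset.range (j + 1), q ^ l := by
  have hq1 : 1 < q := hq ▸ Fintype.one_lt_card
  have hP : Nat.card (Cfsg.parabolicGL n F μ) =
      (∏ k : Fin n, ∏ i ∈ Finset.range (μ k), (q ^ μ k - q ^ i)) *
        q ^ (Finset.univ.filter fun p : Fin n × Fin n => lab μ hμ p.1 < lab μ hμ p.2).card := by
    have h1 : Nat.card (Cfsg.parabolicGL n F μ) =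
        Nat.card {g : GL (Fin n) F // (g : Matrix (Fin n) (Fin n) F).BlockTriangular (lab μ hμ)} :=
      Nat.card_congr (Equiv.refl _)
    rw [h1, card_blockTriangular, hq]
    congr 1
    apply Finset.prod_congr rfl
    intro k _
    rw [card_GL_congr F (card_lab_eq μ hμ k), hq]
  have hG : Nat.card (GL (Fin n) F) = ∏ i ∈ Finset.range n, (q ^ n - q ^ i) := by
    rw [card_GL_congr F (Fintype.card_fin n), hq]
  have hI := Subgroup.card_eq_card_quotient_mul_card_subgroup (Cfsg.parabolicGL n F μ)
  rw [hG, hP, prod_sub_eq q n hq1.le, Finset.prod_congr rfl (fun k _ => prod_sub_eq q (μ k) hq1.le),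
    Finset.prod_mul_distrib, Finset.prod_mul_distrib, Finset.prod_pow_eq_pow_sum,
    Finset.prod_pow_eq_pow_sum, hμ] at hI
  have hE : ∑ k : Fin n, (∑ i ∈ Finset.range (μ k), i) +
      (Finset.univ.filter fun p : Fin n × Fin n => lab μ hμ p.1 < lab μ hμ p.2).card =
      ∑ i ∈ Finset.range n, i := by
    have e1 := card_pairs (lab μ hμ)
    simp only [card_lab_eq, Fintype.card_fin] at e1
    have e2 := sum_range_id_add n
    have e3 : 2 * ∑ k : Fin n, (∑ i ∈ Finset.range (μ k), i) + ∑ i, μ i = ∑ k : Fin n, μ k ^ 2 := by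
      rw [Finset.mul_sum, ← Finset.sum_add_distrib]
      exact Finset.sum_congr rfl (fun k _ => sum_range_id_add (μ k))
    omega
  rw [← hE, pow_add] at hI
  have hpos : 0 < q ^ (∑ k : Fin n, (∑ i ∈ Finset.range (μ k), i)) *
      q ^ (Finset.univ.filter fun p : Fin n × Fin n => lab μ hμ p.1 < lab μ hμ p.2).card * (q - 1) ^ n := by
    have h1 : 0 < q - 1 := by omega
    positivity
  apply Nat.eq_of_mul_eq_mul_left hpos
  linarith

end labels

end Cfsg.Agent.H139.BlockCount
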