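import Mathlib.LinearAlgebra.Vandermonde
import Cfsg.Agent.H139.BlockCount

/-!
# The degrees of the unipotent characters of `GL_n(q)`

`degree` : the value of `unipotentCharacterGL n F ν` at `1`.
-/

set_option autoImplicit false

namespace Cfsg.Agent.H139.Degree

open scoped MatrixGroups
open Finset Matrix Polynomial

/-- The `q`-integer as a complex number. -/
noncomputable def Q (q r : ℕ) : ℂ := ((∑ l ∈ Finset.range r, q ^ l : ℕ) : ℂ)

/-- The `q`-factorial as a complex number. -/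
noncomputable def QF (q r : ℕ) : ℂ := ∏ j ∈ Finset.range r, Q q (j + 1)

/-- The falling `q`-factorial. -/
noncomputable def fall (q x j : ℕ) : ℂ := ∏ k ∈ Finset.range j, Q q (x - k)

theorem Q_zero (q : ℕ) : Q q 0 = 0 := by simp [Q]

theorem Q_ne_zero {q : ℕ} (r : ℕ) (hr : 0 < r) : Q q r ≠ 0 := by
  obtain ⟨r, rfl⟩ := Nat.exists_eq_succ_of_ne_zero hr.ne'
  rw [Q, Nat.cast_ne_zero, Finset.sum_range_succ']
  simp

theorem QF_ne_zero {q : ℕ} (r : ℕ) : QF q r ≠ 0 :=
  Finset.prod_ne_zero_iff.2 fun j _ => Q_ne_zero (j + 1) (Nat.succ_pos j)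

theorem QF_eq (q : ℕ) {x j : ℕ} (h : j ≤ x) : QF q x = QF q (x - j) * fall q x j := by
  induction j with
  | zero => simp [fall]
  | succ j ih =>
    rw [ih (by omega), fall, fall, Finset.prod_range_succ, ← mul_assoc]
    have h1 : x - j = (x - (j + 1)) + 1 := by omega
    have h2 : QF q (x - j) = QF q (x - (j + 1)) * Q q (x - j) := by
      rw [h1, QF, Finset.prod_range_succ]
      rfl
    rw [h2]
    ring

theorem fall_eq_zero (q : ℕ) {x j : ℕ} (h : x < j) : fall q x j = 0 := by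
  rw [fall, Finset.prod_eq_zero_iff]
  exact ⟨x, Finset.mem_range.2 h, by rw [Nat.sub_self, Q_zero]⟩

theorem pow_mul_Q (q : ℕ) {x k : ℕ} (h : k ≤ x) : (q : ℂ) ^ k * Q q (x - k) = Q q x - Q q k := by
  obtain ⟨y, rfl⟩ := Nat.exists_eq_add_of_le h
  rw [Nat.add_sub_cancel_left, Q, Q, Q, Finset.sum_range_add, Finset.sum_congr rfl (fun l _ => pow_add q k l),
    ← Finset.mul_sum]
  push_cast
  ring

theorem pow_mul_fall (q x j : ℕ) :
    (q : ℂ) ^ (∑ k ∈ Finset.range j, k) * fall q x j = ∏ k ∈ Finset.range j, (Q q x - Q q k) := by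
  rcases lt_or_ge x j with h | h
  · rw [fall_eq_zero q h, mul_zero]
    symm
    rw [Finset.prod_eq_zero_iff]
    exact ⟨x, Finset.mem_range.2 h, sub_self _⟩
  · rw [← Finset.prod_pow_eq_pow_sum, fall, ← Finset.prod_mul_distrib]
    apply Finset.prod_congr rfl
    intro k hk
    have := Finset.mem_range.1 hk
    exact pow_mul_Q q (by omega)

theorem sum_sum_range (n : ℕ) : ∑ j ∈ Finset.range n, (∑ k ∈ Finset.range j, k) = n * (n - 1) * (n - 2) / 6 := by
  have h : 6 * ∑ j ∈ Finset.range n, (∑ k ∈ Finset.range j, k) = n * (n - 1) * (n - 2) := by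
    induction n with
    | zero => simp
    | succ n ih =>
      rw [Finset.sum_range_succ, Nat.mul_add, ih]
      have h2 := Finset.sum_range_id_mul_two n
      rcases n with _ | _ | n
      · simp
      · simp
      · simp only [Nat.add_sub_cancel] at h2 ⊢
        have e1 : n + 1 + 1 - 2 = n := by omega
        have e2 : n + 1 + 1 + 1 - 2 = n + 1 := by omega
        rw [e1, e2]
        nlinarith [h2]
  omega

theorem det_fall {n : ℕ} (q : ℕ) (x : Fin n → ℕ) :
    (q : ℂ) ^ (n * (n - 1) * (n - 2) / 6) * (Matrix.of fun i j : Fin n => fall q (x i) j.val).det =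
      ∏ i : Fin n, ∏ j ∈ Finset.univ.filter (fun j : Fin n => i < j), (Q q (x j) - Q q (x i)) := by
  have h1 : ∏ i : Fin n, ∏ j ∈ Finset.univ.filter (fun j : Fin n => i < j), (Q q (x j) - Q q (x i)) =
      (Matrix.vandermonde fun i => Q q (x i)).det := by
    rw [Matrix.det_vandermonde]
    apply Finset.prod_congr rfl
    intro i _
    apply Finset.prod_congr _ (fun _ _ => rfl)
    ext j
    simp
  rw [h1, Matrix.det_eval_matrixOfPolynomials_eq_det_vandermonde (fun i => Q q (x i))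
    (fun j : Fin n => ∏ k ∈ Finset.range j.val, (X - C (Q q k)))
    (fun j => by rw [Polynomial.natDegree_finsetProd_X_sub_C_eq_card, Finset.card_range])
    (fun j => Polynomial.monic_prod_of_monic _ _ (fun k _ => Polynomial.monic_X_sub_C _))]
  have h2 : (Matrix.of fun i j : Fin n => (∏ k ∈ Finset.range j.val, (X - C (Q q k))).eval (Q q (x i))) =
      Matrix.of fun i j : Fin n => (q : ℂ) ^ (∑ k ∈ Finset.range j.val, k) *
        (Matrix.of fun i j : Fin n => fall q (x i) j.val) i j := by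
    ext i j
    simp only [Matrix.of_apply]
    rw [pow_mul_fall, Polynomial.eval_prod]
    simp
  rw [h2, Matrix.det_mul_row (fun j : Fin n => (q : ℂ) ^ (∑ k ∈ Finset.range j.val, k)),
    Finset.prod_pow_eq_pow_sum, Fin.sum_univ_eq_sum_range (fun j => ∑ k ∈ Finset.range j, k) n, sum_sum_range]

theorem fixedPointCharacter_one {G : Type*} [Group G] (H : Subgroup G) :
    Cfsg.fixedPointCharacter H 1 = (Nat.card (G ⧸ H) : ℂ) := by
  rw [Cfsg.fixedPointCharacter]
  congr 1
  exact Nat.card_congr (Equiv.subtypeUnivEquiv (fun x => by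
    rw [MulAction.mem_fixedBy, one_smul]))

theorem sum_sub_eq {n : ℕ} (ν : Fin n → ℕ) (hsum : ∑ i, ν i = n) (κ : Equiv.Perm (Fin n))
    (hκ : ∀ i : Fin n, (κ i).val ≤ ν i + i.val) : ∑ i, (ν i + i.val - (κ i).val) = n := by
  have h1 : ∑ i, (ν i + i.val - (κ i).val) + ∑ i, (κ i).val = ∑ i, ν i + ∑ i : Fin n, i.val := by
    rw [← Finset.sum_add_distrib, ← Finset.sum_add_distrib]
    apply Finset.sum_congr rfl
    intro i _
    have := hκ i
    omega
  have h2 : ∑ i, (κ i).val = ∑ i : Fin n, i.val := Equiv.sum_comp κ (fun i => i.val)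
  omega

/-- **The degrees of the unipotent characters of `GL_n(q)`.** -/
theorem degree {F : Type*} [Field F] [Fintype F] {q : ℕ} (hq : Fintype.card F = q) {n : ℕ} (ν : Fin n → ℕ)
    (hsum : ∑ i, ν i = n) :
    Cfsg.unipotentCharacterGL n F ν 1 * (q : ℂ) ^ (n * (n - 1) * (n - 2) / 6) *
        ∏ i : Fin n, QF q (ν i + i.val) =
      QF q n * ∏ i : Fin n, ∏ j ∈ Finset.univ.filter (fun j : Fin n => i < j),
          (Q q (ν j + j.val) - Q q (ν i + i.val)) := by
  have h1 : Cfsg.unipotentCharacterGL n F ν 1 * ∏ i : Fin n, QF q (ν i + i.val) =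
      QF q n * (Matrix.of fun i j : Fin n => fall q (ν i + i.val) j.val).det := by
    rw [← Matrix.det_transpose, Matrix.det_apply', Cfsg.unipotentCharacterGL, Finset.sum_mul, Finset.mul_sum]
    apply Finset.sum_congr rfl
    intro κ _
    simp only [Matrix.transpose_apply, Matrix.of_apply]
    split_ifs with hκ
    · rw [fixedPointCharacter_one]
      have hidx := Cfsg.Agent.H139.BlockCount.index_parabolicGL hq (fun i => ν i + i.val - (κ i).val)
        (sum_sub_eq ν hsum κ hκ)
      have hidx' : (Nat.card (GL (Fin n) F ⧸ Cfsg.parabolicGL n F fun i => ν i + i.val - (κ i).val) : ℂ) *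
          ∏ i : Fin n, QF q (ν i + i.val - (κ i).val) = QF q n := by
        have := congrArg (fun x : ℕ => (x : ℂ)) hidx
        simp only [Nat.cast_mul, Nat.cast_prod] at this
        exact this
      rw [← hidx', Finset.prod_congr rfl (fun i _ => QF_eq q (hκ i)), Finset.prod_mul_distrib]
      ring
    · push Not at hκ
      obtain ⟨i, hi⟩ := hκ
      rw [zero_mul, Finset.prod_eq_zero (Finset.mem_univ i) (fall_eq_zero q hi), mul_zero, mul_zero]
  rw [mul_assoc, mul_comm ((q : ℂ) ^ _), ← mul_assoc, h1, mul_assoc, mul_comm _ ((q : ℂ) ^ _), det_fall]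

/-- The degree is a positive real number. -/
theorem degree_pos {F : Type*} [Field F] [Fintype F] {n : ℕ} (ν : Fin n → ℕ) (hmono : Monotone ν)
    (hsum : ∑ i, ν i = n) : ∃ r : ℝ, 0 < r ∧ Cfsg.unipotentCharacterGL n F ν 1 = (r : ℂ) := by
  have h := degree (F := F) rfl ν hsum
  set q := Fintype.card F with hq
  have hq0 : 0 < q := Fintype.card_pos
  have hQ : ∀ r, Q q r = (((∑ l ∈ Finset.range r, q ^ l : ℕ) : ℝ) : ℂ) := fun r => by
    rw [Q, Complex.ofReal_natCast]
  have hQpos : ∀ r, 0 < r → (0 : ℝ) < ((∑ l ∈ Finset.range r, q ^ l : ℕ) : ℝ) := by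
    intro r hr
    rw [Nat.cast_pos]
    exact Finset.sum_pos (fun _ _ => pow_pos hq0 _) ⟨0, Finset.mem_range.2 hr⟩
  have hQlt : ∀ r s, r < s → ((∑ l ∈ Finset.range r, q ^ l : ℕ) : ℝ) < ((∑ l ∈ Finset.range s, q ^ l : ℕ) : ℝ) := by
    intro r s hrs
    rw [Nat.cast_lt]
    exact Finset.sum_lt_sum_of_subset (Finset.range_subset_range.2 hrs.le) (Finset.mem_range.2 hrs)
      (by simp) (pow_pos hq0 _) (fun _ _ _ => Nat.zero_le _)
  obtain ⟨a, ha, ha'⟩ : ∃ a : ℝ, 0 < a ∧ (q : ℂ) ^ (n * (n - 1) * (n - 2) / 6) *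
      ∏ i : Fin n, QF q (ν i + i.val) = (a : ℂ) := by
    refine ⟨(q : ℝ) ^ (n * (n - 1) * (n - 2) / 6) * ∏ i : Fin n, ∏ j ∈ Finset.range (ν i + i.val),
      ((∑ l ∈ Finset.range (j + 1), q ^ l : ℕ) : ℝ), ?_, ?_⟩
    · apply mul_pos (pow_pos (Nat.cast_pos.2 hq0) _)
      exact Finset.prod_pos fun i _ => Finset.prod_pos fun j _ => hQpos _ (Nat.succ_pos j)
    · rw [Complex.ofReal_mul, Complex.ofReal_pow, Complex.ofReal_natCast, Complex.ofReal_prod]
      congr 1
      apply Finset.prod_congr rfl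
      intro i _
      rw [QF, Complex.ofReal_prod]
      exact Finset.prod_congr rfl fun j _ => hQ _
  obtain ⟨b, hb, hb'⟩ : ∃ b : ℝ, 0 < b ∧ QF q n * ∏ i : Fin n, ∏ j ∈ Finset.univ.filter (fun j : Fin n => i < j),
          (Q q (ν j + j.val) - Q q (ν i + i.val)) = (b : ℂ) := by
    refine ⟨(∏ j ∈ Finset.range n, ((∑ l ∈ Finset.range (j + 1), q ^ l : ℕ) : ℝ)) *
      ∏ i : Fin n, ∏ j ∈ Finset.univ.filter (fun j : Fin n => i < j),
      (((∑ l ∈ Finset.range (ν j + j.val), q ^ l : ℕ) : ℝ) - ((∑ l ∈ Finset.range (ν i + i.val), q ^ l : ℕ) : ℝ)),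
      ?_, ?_⟩
    · apply mul_pos (Finset.prod_pos fun j _ => hQpos _ (Nat.succ_pos j))
      refine Finset.prod_pos fun i _ => Finset.prod_pos fun j hj => ?_
      rw [Finset.mem_filter] at hj
      have h1 := hmono hj.2.le
      have h2 : i.val < j.val := hj.2
      exact sub_pos.2 (hQlt _ _ (by omega))
    · rw [Complex.ofReal_mul, Complex.ofReal_prod, Complex.ofReal_prod, QF,
        Finset.prod_congr rfl (fun j _ => hQ (j + 1))]
      congr 1
      apply Finset.prod_congr rfl
      intro i _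
      rw [Complex.ofReal_prod]
      apply Finset.prod_congr rfl
      intro j _
      rw [Complex.ofReal_sub, hQ, hQ]
  rw [mul_assoc, ha', hb'] at h
  refine ⟨b / a, div_pos hb ha, ?_⟩
  rw [Complex.ofReal_div, eq_div_iff (by exact_mod_cast ha.ne'), h]

end Cfsg.Agent.H139.Degree
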