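import Mathlib.LinearAlgebra.Matrix.Permutation
import Mathlib.LinearAlgebra.Matrix.Transvection
import Cfsg.Prelude.Def_LinearParabolics

/-!
# The Bruhat decomposition of `GL_n(F)`

`bruhat` : every invertible matrix over a field is `u * permGL σ * v` with `u`, `v` upper triangular.
-/

set_option autoImplicit false

namespace Cfsg.Agent.H139.Bruhat

open scoped MatrixGroups
open Matrix

variable {F : Type*} [Field F] {n : ℕ}

/-- The permutation matrices, `e_j ↦ e_{σ j}`, as a homomorphism to `GL_n(F)`. -/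
noncomputable def permGL (F : Type*) [Field F] (n : ℕ) : Equiv.Perm (Fin n) →* GL (Fin n) F :=
  (Matrix.permMatrixHom (n := Fin n) (R := F)).toHomUnits

theorem coe_permGL (σ : Equiv.Perm (Fin n)) :
    ((permGL F n σ : GL (Fin n) F) : Matrix (Fin n) (Fin n) F) = (σ⁻¹ : Equiv.Perm (Fin n)).permMatrix F := rfl

theorem permGL_mulVec (σ : Equiv.Perm (Fin n)) (v : Fin n → F) (i : Fin n) :
    (((permGL F n σ : GL (Fin n) F) : Matrix (Fin n) (Fin n) F) *ᵥ v) i = v (σ⁻¹ i) := by
  rw [coe_permGL, Matrix.permMatrix_mulVec]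
  rfl

theorem permGL_mul_apply (σ : Equiv.Perm (Fin n)) (M : Matrix (Fin n) (Fin n) F) (i j : Fin n) :
    (((permGL F n σ : GL (Fin n) F) : Matrix (Fin n) (Fin n) F) * M) i j = M (σ⁻¹ i) j := by
  rw [coe_permGL, PEquiv.toMatrix_toPEquiv_mul]
  rfl

/-- The position of the first non-zero entry. -/
noncomputable def lead (v : Fin n → F) : ℕ := sInf {j : ℕ | ∃ h : j < n, v ⟨j, h⟩ ≠ 0}

theorem lead_mem {v : Fin n → F} (hv : v ≠ 0) : ∃ h : lead v < n, v ⟨lead v, h⟩ ≠ 0 := by
  have : {j : ℕ | ∃ h : j < n, v ⟨j, h⟩ ≠ 0}.Nonempty := by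
    by_contra hcon
    rw [Set.not_nonempty_iff_eq_empty] at hcon
    apply hv
    funext j
    by_contra hj
    have : j.val ∈ {j : ℕ | ∃ h : j < n, v ⟨j, h⟩ ≠ 0} := ⟨j.2, hj⟩
    rw [hcon] at this
    exact this
  exact Nat.sInf_mem this

theorem apply_of_lt_lead {v : Fin n → F} {j : Fin n} (h : j.val < lead v) : v j = 0 := by
  by_contra hcon
  exact Nat.notMem_of_lt_sInf h ⟨j.2, hcon⟩

theorem lt_lead_of {v : Fin n → F} (hv : v ≠ 0) {k : ℕ} (h : ∀ j : Fin n, j.val ≤ k → v j = 0) : k < lead v := by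
  by_contra hcon
  obtain ⟨h1, h2⟩ := lead_mem hv
  exact h2 (h _ (not_lt.1 hcon))

/-- The leading position of the `i`-th row of an invertible matrix. -/
noncomputable def ld (g : GL (Fin n) F) (i : Fin n) : ℕ := lead (fun j => (g : Matrix (Fin n) (Fin n) F) i j)

theorem row_ne_zero (g : GL (Fin n) F) (i : Fin n) : (fun j => (g : Matrix (Fin n) (Fin n) F) i j) ≠ 0 := by
  intro h
  have h1 : IsUnit ((g : Matrix (Fin n) (Fin n) F)).det := (Matrix.isUnit_iff_isUnit_det _).1 g.isUnit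
  rw [Matrix.det_eq_zero_of_row_eq_zero i (fun j => congrFun h j)] at h1
  exact not_isUnit_zero h1

theorem ld_lt (g : GL (Fin n) F) (i : Fin n) : ld g i < n := (lead_mem (row_ne_zero g i)).1

theorem ld_ne (g : GL (Fin n) F) (i : Fin n) : (g : Matrix (Fin n) (Fin n) F) i ⟨ld g i, ld_lt g i⟩ ≠ 0 :=
  (lead_mem (row_ne_zero g i)).2

theorem apply_of_lt_ld (g : GL (Fin n) F) {i j : Fin n} (h : j.val < ld g i) :
    (g : Matrix (Fin n) (Fin n) F) i j = 0 := apply_of_lt_lead (v := fun j => (g : Matrix (Fin n) (Fin n) F) i j) h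

theorem lt_ld_of (g : GL (Fin n) F) {i : Fin n} {k : ℕ}
    (h : ∀ j : Fin n, j.val ≤ k → (g : Matrix (Fin n) (Fin n) F) i j = 0) : k < ld g i :=
  lt_lead_of (row_ne_zero g i) h

theorem exists_max {α : Type*} (s : Set α) (hs : s.Nonempty) (f : α → ℕ) (N : ℕ) (hN : ∀ a ∈ s, f a ≤ N) :
    ∃ a ∈ s, ∀ b ∈ s, f b ≤ f a := by
  have h1 : (f '' s).Nonempty := hs.image f
  have h2 : BddAbove (f '' s) := ⟨N, by rintro _ ⟨a, ha, rfl⟩; exact hN a ha⟩
  obtain ⟨a, ha, e⟩ := Nat.sSup_mem h1 h2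
  refine ⟨a, ha, fun b hb => ?_⟩
  rw [e]
  exact le_csSup h2 ⟨b, hb, rfl⟩

/-- **The Bruhat decomposition.** -/
theorem bruhat (g : GL (Fin n) F) :
    ∃ u ∈ Cfsg.upperTriangularGL n F, ∃ σ : Equiv.Perm (Fin n), ∃ v ∈ Cfsg.upperTriangularGL n F,
      g = u * permGL F n σ * v := by
  classical
  obtain ⟨u, hu, hmax⟩ := exists_max (Cfsg.upperTriangularGL n F : Set (GL (Fin n) F)) ⟨1, one_mem _⟩
    (fun u => ∑ i : Fin n, ld (u * g) i) (n * n) (by
      intro u _
      calc _ ≤ ∑ i : Fin n, n := Finset.sum_le_sum fun i _ => (ld_lt (u * g) i).le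
        _ = n * n := by simp)
  obtain ⟨m, hm⟩ : ∃ m : GL (Fin n) F, m = u * g := ⟨_, rfl⟩
  have hmax' : ∀ t ∈ Cfsg.upperTriangularGL n F, ∑ i : Fin n, ld (t * m) i ≤ ∑ i : Fin n, ld m i := by
    intro t ht
    have := hmax (t * u) (mul_mem ht hu)
    rw [hm, ← mul_assoc]
    exact this
  -- the leading positions are distinct
  have key : ∀ i k : Fin n, i < k → ld m i ≠ ld m k := by
    intro i k hik heq
    have h2 := ld_ne m i
    have h4 := ld_ne m k
    set c : F := - (m : Matrix (Fin n) (Fin n) F) i ⟨ld m i, ld_lt m i⟩ /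
      (m : Matrix (Fin n) (Fin n) F) k ⟨ld m k, ld_lt m k⟩ with hc
    let t : GL (Fin n) F := GeneralLinearGroup.mk'' (transvection i k c)
      (by rw [det_transvection_of_ne _ _ hik.ne]; exact isUnit_one)
    have ht : t ∈ Cfsg.upperTriangularGL n F := blockTriangular_transvection (b := id) hik.le c
    have h5 := hmax' t ht
    have e1 : ((t * m : GL (Fin n) F) : Matrix (Fin n) (Fin n) F) =
      transvection i k c * (m : Matrix (Fin n) (Fin n) F) := rfl
    have h7 : ld m i < ld (t * m) i := by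
      apply lt_ld_of
      intro l hl
      rw [e1, transvection_mul_apply_same]
      rcases Nat.lt_or_eq_of_le hl with hl | hl
      · rw [apply_of_lt_ld m hl, apply_of_lt_ld m (heq ▸ hl), mul_zero, add_zero]
      · have e2 : l = ⟨ld m i, ld_lt m i⟩ := Fin.ext hl
        have e3 : l = ⟨ld m k, ld_lt m k⟩ := Fin.ext (hl.trans heq)
        rw [hc, ← e2, ← e3, div_mul_cancel₀ _ (by rw [e3]; exact h4), add_neg_cancel]
    have h6 : ∀ j ∈ Finset.univ, ld m j ≤ ld (t * m) j := by
      intro j _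
      by_cases hj : j = i
      · subst hj
        exact h7.le
      · apply le_of_eq
        rw [ld, ld]
        congr 1
        funext l
        rw [e1, transvection_mul_apply_of_ne _ _ _ _ hj]
    exact absurd h5 (not_le_of_gt (Finset.sum_lt_sum h6 ⟨i, Finset.mem_univ i, h7⟩))
  have hinj : Function.Injective fun i : Fin n => (⟨ld m i, ld_lt m i⟩ : Fin n) := by
    intro i k h
    have h' : ld m i = ld m k := congrArg Fin.val h
    rcases lt_trichotomy i k with hik | hik | hik
    · exact absurd h' (key i k hik)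
    · exact hik
    · exact absurd h'.symm (key k i hik)
  let σ : Equiv.Perm (Fin n) := Equiv.ofBijective _ (Finite.injective_iff_bijective.1 hinj)
  have hσ : ∀ i, ld m i = (σ i).val := fun i => rfl
  refine ⟨u⁻¹, inv_mem hu, σ⁻¹, permGL F n σ * m, ?_, ?_⟩
  · change (((permGL F n σ * m : GL (Fin n) F)) : Matrix (Fin n) (Fin n) F).BlockTriangular id
    intro i j hij
    change (((permGL F n σ : GL (Fin n) F) : Matrix (Fin n) (Fin n) F) * (m : Matrix (Fin n) (Fin n) F)) i j = 0
    rw [permGL_mul_apply]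
    apply apply_of_lt_ld
    rw [hσ]
    simpa using hij
  · rw [map_inv, hm]
    group

end Cfsg.Agent.H139.Bruhat
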