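import Mathlib.GroupTheory.GroupAction.Quotient
import Cfsg.Prelude.Def_ParabolicCharacters

/-!
# Inner products of permutation characters and double cosets

* `inner_eq_card_orbits` : `⟨1_H^G, 1_K^G⟩` is the number of orbits of `G` on `G/H × G/K`.
* `card_orbits` : this number is the size of the range of a function on `G` whose fibres are the
  double cosets `H g K`.
* `inner_eq_card_range` : the combination.
-/

set_option autoImplicit false

namespace Cfsg.Agent.H139.DoubleCoset

open MulAction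

variable {G : Type*} [Group G]

theorem inner_eq_card_orbits [Fintype G] (H K : Subgroup G) :
    (Nat.card G : ℂ)⁻¹ * ∑ g : G, Cfsg.fixedPointCharacter H g * Cfsg.fixedPointCharacter K g =
      (Nat.card (orbitRel.Quotient G ((G ⧸ H) × (G ⧸ K))) : ℂ) := by
  classical
  have h1 : ∀ g : G, Cfsg.fixedPointCharacter H g * Cfsg.fixedPointCharacter K g =
      (Fintype.card (fixedBy ((G ⧸ H) × (G ⧸ K)) g) : ℂ) := by
    intro g
    rw [Cfsg.fixedPointCharacter, Cfsg.fixedPointCharacter, ← Nat.cast_mul, ← Nat.card_prod,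
      ← Nat.card_eq_fintype_card]
    congr 1
    refine Nat.card_congr ⟨fun x => ⟨(x.1.1, x.2.1), ?_⟩, fun x => (⟨x.1.1, ?_⟩, ⟨x.1.2, ?_⟩), ?_, ?_⟩
    · rw [mem_fixedBy]
      exact Prod.ext x.1.2 x.2.2
    · exact congrArg Prod.fst x.2
    · exact congrArg Prod.snd x.2
    · intro x; rfl
    · intro x; rfl
  have h2 := sum_card_fixedBy_eq_card_orbits_mul_card_group G ((G ⧸ H) × (G ⧸ K))
  rw [Finset.sum_congr rfl (fun g _ => h1 g), ← Nat.cast_sum, h2, Nat.cast_mul, ← Nat.card_eq_fintype_card,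
    ← Nat.card_eq_fintype_card, mul_comm (Nat.card G : ℂ)⁻¹, mul_assoc, mul_inv_cancel₀, mul_one]
  rw [Nat.cast_ne_zero]
  exact Nat.card_pos.ne'

theorem card_orbits (H K : Subgroup G) {Y : Type*} (F : G → Y)
    (h1 : ∀ h ∈ H, ∀ g, ∀ k ∈ K, F (h * g * k) = F g)
    (h2 : ∀ g g', F g = F g' → ∃ h ∈ H, ∃ k ∈ K, g' = h * g * k) :
    Nat.card (orbitRel.Quotient G ((G ⧸ H) × (G ⧸ K))) = Nat.card (Set.range F) := by
  classical
  let Φ : (G ⧸ H) × (G ⧸ K) → Y := fun p => F (p.1.out⁻¹ * p.2.out)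
  have hΦ : ∀ x y : G, Φ (QuotientGroup.mk x, QuotientGroup.mk y) = F (x⁻¹ * y) := by
    intro x y
    obtain ⟨h, hh⟩ := QuotientGroup.mk_out_eq_mul H x
    obtain ⟨k, hk⟩ := QuotientGroup.mk_out_eq_mul K y
    change F ((QuotientGroup.mk x : G ⧸ H).out⁻¹ * (QuotientGroup.mk y : G ⧸ K).out) = _
    rw [hh, hk, mul_inv_rev]
    have := h1 (h : G)⁻¹ (H.inv_mem h.2) (x⁻¹ * y) k k.2
    rw [← this]
    congr 1
    group
  have h3 : ∀ p p' : (G ⧸ H) × (G ⧸ K), (orbitRel G ((G ⧸ H) × (G ⧸ K))) p p' ↔ Φ p = Φ p' := by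
    rintro ⟨x, y⟩ ⟨x', y'⟩
    induction x using QuotientGroup.induction_on with | H x => ?_
    induction y using QuotientGroup.induction_on with | H y => ?_
    induction x' using QuotientGroup.induction_on with | H x' => ?_
    induction y' using QuotientGroup.induction_on with | H y' => ?_
    rw [orbitRel_apply, hΦ, hΦ]
    constructor
    · rintro ⟨g, hg⟩
      have e1 : (QuotientGroup.mk (g * x') : G ⧸ H) = QuotientGroup.mk x := congrArg Prod.fst hg
      have e2 : (QuotientGroup.mk (g * y') : G ⧸ K) = QuotientGroup.mk y := congrArg Prod.snd hg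
      rw [← hΦ x y, ← e1, ← e2, hΦ, mul_inv_rev]
      congr 1
      group
    · intro h
      obtain ⟨a, ha, k, hk, e⟩ := h2 _ _ h.symm
      refine ⟨x * a * x'⁻¹, ?_⟩
      refine Prod.ext ?_ ?_
      · change (QuotientGroup.mk (x * a * x'⁻¹ * x') : G ⧸ H) = QuotientGroup.mk x
        rw [QuotientGroup.eq]
        have : (x * a * x'⁻¹ * x')⁻¹ * x = a⁻¹ := by group
        rw [this]
        exact H.inv_mem ha
      · change (QuotientGroup.mk (x * a * x'⁻¹ * y') : G ⧸ K) = QuotientGroup.mk y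
        rw [QuotientGroup.eq]
        have e' : y = x * (a * (x'⁻¹ * y') * k) := by
          rw [← e]; group
        have : (x * a * x'⁻¹ * y')⁻¹ * y = k := by
          rw [e']; group
        rw [this]
        exact hk
  have h4 : Set.range Φ = Set.range F := by
    ext z
    constructor
    · rintro ⟨p, rfl⟩
      exact ⟨_, rfl⟩
    · rintro ⟨g, rfl⟩
      exact ⟨(QuotientGroup.mk 1, QuotientGroup.mk g), by rw [hΦ, inv_one, one_mul]⟩
  rw [← h4]
  refine Nat.card_congr (Equiv.ofBijective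
    (Quotient.lift (fun p => (⟨Φ p, p, rfl⟩ : Set.range Φ)) ?_) ⟨?_, ?_⟩)
  · intro p p' hp
    exact Subtype.ext ((h3 p p').1 hp)
  · intro a b
    refine Quotient.inductionOn₂ a b ?_
    intro p p' h
    exact Quotient.sound ((h3 p p').2 (congrArg Subtype.val h))
  · rintro ⟨_, p, rfl⟩
    exact ⟨Quotient.mk _ p, rfl⟩

/-- **The inner product of two permutation characters** is the size of the range of a function whose fibres are
the double cosets. -/
theorem inner_eq_card_range [Fintype G] (H K : Subgroup G) {Y : Type*} (F : G → Y)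
    (h1 : ∀ h ∈ H, ∀ g, ∀ k ∈ K, F (h * g * k) = F g)
    (h2 : ∀ g g', F g = F g' → ∃ h ∈ H, ∃ k ∈ K, g' = h * g * k) :
    (Nat.card G : ℂ)⁻¹ * ∑ g : G, Cfsg.fixedPointCharacter H g * Cfsg.fixedPointCharacter K g =
      (Nat.card (Set.range F) : ℂ) := by
  rw [inner_eq_card_orbits, card_orbits H K F h1 h2]

end Cfsg.Agent.H139.DoubleCoset
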